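import Mathlib
import Cfsg.Agent.Lib.Helper56.Zass.DKFDefs

/-!
Project ZASS (S0690), sub-package [DKF-F]: the abstract facts on a fixed-point-free subgroup
of `GL₂(E)` generated by elements of order 3.
-/

set_option autoImplicit false

namespace Cfsg.Agent.Lib.Helper41.Zass

open Cfsg.Agent.Lib.Helper56.Zass

universe u

section
variable {E : Type u} [Field E] {H : Type u} [Group H]
  (φ : H →* Matrix.GeneralLinearGroup (Fin 2) E)

/-- the matrix of `φ g`. -/
abbrev mt (g : H) : Matrix (Fin 2) (Fin 2) E := ((φ g : Matrix.GeneralLinearGroup (Fin 2) E) : Matrix (Fin 2) (Fin 2) E)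

theorem mt_mul (g h : H) : mt φ (g * h) = mt φ g * mt φ h := by
  simp [mt, map_mul]

theorem mt_one : mt φ (1 : H) = 1 := by
  simp [mt, map_one]

theorem mt_pow (g : H) (n : ℕ) : mt φ (g ^ n) = mt φ g ^ n := by
  simp [mt, map_pow]

theorem not_isUnit_zero_mat : ¬ IsUnit (0 : Matrix (Fin 2) (Fin 2) E) := not_isUnit_zero

/-- fixed-point-freeness: `φ g = 1` forces `g = 1`. -/
theorem eq_one_of_mt_eq_one (hfpf : ∀ g : H, g ≠ 1 → IsUnit (mt φ g - 1)) (g : H)
    (h : mt φ g = 1) : g = 1 := by
  by_contra hg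
  have := hfpf g hg
  rw [h, sub_self] at this
  exact not_isUnit_zero_mat this

/-- an element of order 2 is mapped to `-1`. -/
theorem mt_of_order_two (hfpf : ∀ g : H, g ≠ 1 → IsUnit (mt φ g - 1)) (s : H)
    (hs : orderOf s = 2) : mt φ s = -1 := by
  have hs1 : s ≠ 1 := by
    intro h; rw [h, orderOf_one] at hs; omega
  have hs2 : s ^ 2 = 1 := by rw [← hs]; exact pow_orderOf_eq_one s
  have hsq : mt φ s * mt φ s = 1 := by
    rw [← mt_mul, ← pow_two, hs2, mt_one]
  have hu := hfpf s hs1
  have h0 : (mt φ s - 1) * (mt φ s + 1) = 0 := by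
    have : (mt φ s - 1) * (mt φ s + 1) = mt φ s * mt φ s - 1 := by noncomm_ring
    rw [this, hsq, sub_self]
  have h1 : mt φ s + 1 = 0 := by
    obtain ⟨u, hu'⟩ := hu
    have := congrArg (fun x => (↑u⁻¹ : Matrix (Fin 2) (Fin 2) E) * x) h0
    simp only [mul_zero] at this
    rw [← mul_assoc, ← hu', Units.inv_mul, one_mul] at this
    exact this
  exact eq_neg_of_add_eq_zero_left h1

/-- an element of order 3 satisfies `M² + M + 1 = 0`. -/
theorem mt_of_order_three (hfpf : ∀ g : H, g ≠ 1 → IsUnit (mt φ g - 1)) (a : H)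
    (ha : orderOf a = 3) : mt φ a * mt φ a + mt φ a + 1 = 0 := by
  have ha1 : a ≠ 1 := by
    intro h; rw [h, orderOf_one] at ha; omega
  have ha3 : a ^ 3 = 1 := by rw [← ha]; exact pow_orderOf_eq_one a
  have hcube : mt φ a * mt φ a * mt φ a = 1 := by
    have : mt φ a * mt φ a * mt φ a = mt φ (a ^ 3) := by
      rw [mt_pow, pow_succ, pow_two]
    rw [this, ha3, mt_one]
  have hu := hfpf a ha1
  have h0 : (mt φ a - 1) * (mt φ a * mt φ a + mt φ a + 1) = 0 := by
    have : (mt φ a - 1) * (mt φ a * mt φ a + mt φ a + 1) = mt φ a * mt φ a * mt φ a - 1 := by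
      noncomm_ring
    rw [this, hcube, sub_self]
  obtain ⟨u, hu'⟩ := hu
  have := congrArg (fun x => (↑u⁻¹ : Matrix (Fin 2) (Fin 2) E) * x) h0
  simp only [mul_zero] at this
  rw [← mul_assoc, ← hu', Units.inv_mul, one_mul] at this
  exact this

end

theorem pkgDkfF : PkgDkfF.{u} := by
  intro p _ E _ _ _ G _ _ H φ hfpf hgen
  have hfpf' : ∀ g : H, g ≠ 1 → IsUnit (mt φ g - 1) := hfpf
  refine ⟨?_, ?_, ?_, ?_⟩
  · -- unique involution
    intro s t hs ht
    have h1 := mt_of_order_two φ hfpf' s hs
    have h2 := mt_of_order_two φ hfpf' t ht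
    have h3 : mt φ (s * t⁻¹) = 1 := by
      have ht' : mt φ t * mt φ t⁻¹ = 1 := by rw [← mt_mul, mul_inv_cancel, mt_one]
      rw [h2] at ht'
      have ht'' : mt φ t⁻¹ = -1 := by
        have : mt φ t⁻¹ = -(-1 * mt φ t⁻¹) := by simp
        rw [this, ht']
      rw [mt_mul, h1, ht'']; simp
    have := eq_one_of_mt_eq_one φ hfpf' _ h3
    exact mul_inv_eq_one.mp this
  · -- commuting elements of order 3
    intro a b ha hb hab
    have hA := mt_of_order_three φ hfpf' a ha
    have hB := mt_of_order_three φ hfpf' b hb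
    have hb3 : b ^ 3 = 1 := by rw [← hb]; exact pow_orderOf_eq_one b
    have hbinv : b⁻¹ = b * b := by
      have : b * (b * b) = 1 := by rw [← pow_two, ← pow_succ', hb3]
      exact inv_eq_of_mul_eq_one_right this
    have hAB : mt φ a * mt φ b = mt φ b * mt φ a := by rw [← mt_mul, ← mt_mul, hab]
    have key : (mt φ (a * b⁻¹) - 1) * (mt φ (a * b) - 1) = 0 := by
      rw [hbinv, mt_mul, mt_mul, mt_mul]
      have e : (mt φ a * (mt φ b * mt φ b) - 1) * (mt φ a * mt φ b - 1) =
          mt φ a * mt φ a * (mt φ b * mt φ b * mt φ b) - mt φ a * (mt φ b * mt φ b + mt φ b) + 1 := by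
        have c1 : mt φ b * mt φ a = mt φ a * mt φ b := hAB.symm
        calc (mt φ a * (mt φ b * mt φ b) - 1) * (mt φ a * mt φ b - 1)
            = mt φ a * mt φ b * (mt φ b * mt φ a) * mt φ b - mt φ a * (mt φ b * mt φ b)
                - mt φ a * mt φ b + 1 := by noncomm_ring
          _ = mt φ a * mt φ b * (mt φ a * mt φ b) * mt φ b - mt φ a * (mt φ b * mt φ b)
                - mt φ a * mt φ b + 1 := by rw [c1]
          _ = mt φ a * (mt φ b * mt φ a) * mt φ b * mt φ b - mt φ a * (mt φ b * mt φ b)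
                - mt φ a * mt φ b + 1 := by noncomm_ring
          _ = mt φ a * (mt φ a * mt φ b) * mt φ b * mt φ b - mt φ a * (mt φ b * mt φ b)
                - mt φ a * mt φ b + 1 := by rw [c1]
          _ = mt φ a * mt φ a * (mt φ b * mt φ b * mt φ b) - mt φ a * (mt φ b * mt φ b + mt φ b) + 1 := by
                noncomm_ring
      rw [e]
      have hBc : mt φ b * mt φ b * mt φ b = 1 := by
        have : mt φ b * mt φ b * mt φ b = mt φ (b ^ 3) := by
          rw [mt_pow, pow_succ, pow_two]
        rw [this, hb3, mt_one]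
      have hB' : mt φ b * mt φ b + mt φ b = -1 := by
        have := hB
        exact eq_neg_of_add_eq_zero_left this
      rw [hBc, hB', mul_one, mul_neg, mul_one, sub_neg_eq_add]
      exact hA
    by_cases h1 : a * b⁻¹ = 1
    · left
      exact (mul_inv_eq_one.mp h1).symm
    · by_cases h2 : a * b = 1
      · right
        exact (eq_inv_of_mul_eq_one_right h2)
      · exfalso
        have u1 := hfpf' _ h1
        have u2 := hfpf' _ h2
        have := u1.mul u2
        rw [key] at this
        exact not_isUnit_zero_mat this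
  · -- p does not divide the order
    intro hp
    obtain ⟨g, hg⟩ := exists_prime_orderOf_dvd_card' p hp
    have hg1 : g ≠ 1 := by
      intro h; rw [h, orderOf_one] at hg
      exact (Fact.out : p.Prime).one_lt.ne hg
    have hgp : g ^ p = 1 := by rw [← hg]; exact pow_orderOf_eq_one g
    have hpow : mt φ g ^ p = 1 := by
      rw [← mt_pow, hgp, mt_one]
    have hnil : (mt φ g - 1) ^ p = 0 := by
      rw [sub_pow_char_of_commute p (Commute.one_right _), hpow, one_pow, sub_self]
    have hu := (hfpf' g hg1).pow p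
    rw [hnil] at hu
    exact not_isUnit_zero_mat hu
  · -- generation inside H
    rw [eq_top_iff]
    intro h _
    have hmem : (h : G) ∈ Subgroup.closure {g : G | g ∈ H ∧ orderOf g = 3} := by
      rw [hgen]; exact h.2
    have hle : Subgroup.closure {g : G | g ∈ H ∧ orderOf g = 3} ≤
        (Subgroup.closure {h : H | orderOf h = 3}).map H.subtype := by
      rw [Subgroup.closure_le]
      intro g hg
      refine ⟨⟨g, hg.1⟩, Subgroup.subset_closure ?_, rfl⟩
      show orderOf (⟨g, hg.1⟩ : H) = 3
      rw [← Subgroup.orderOf_coe]; exact hg.2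
    obtain ⟨h', hh', hh'eq⟩ := hle hmem
    have : h' = h := Subtype.ext hh'eq
    rw [← this]; exact hh'

end Cfsg.Agent.Lib.Helper41.Zass
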