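import Mathlib
import Cfsg.Agent.Lib.Helper56.Zass.DKFDefs

/-!
Project ZASS (S0690), sub-package [DKF-IDX2]: a group generated by elements of order 3 has no
quotient with a subgroup of index 2.
-/

set_option autoImplicit false

namespace Cfsg.Agent.Lib.Helper41.Zass

open Cfsg.Agent.Lib.Helper56.Zass

universe u v

theorem pkgDkfIdx2 : PkgDkfIdx2.{u, v} := by
  intro H _ _ Q _ ψ hgen hsurj N hN
  have : N.Normal := Subgroup.normal_of_index_eq_two hN
  have hcard : Nat.card (Q ⧸ N) = 2 := by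
    rw [← Subgroup.index_eq_card]; exact hN
  have hker : ((QuotientGroup.mk' N).comp ψ).ker = ⊤ := by
    rw [eq_top_iff, ← hgen, Subgroup.closure_le]
    intro h hh
    have h3 : orderOf h = 3 := hh
    rw [SetLike.mem_coe, MonoidHom.mem_ker]
    have hy3 : (((QuotientGroup.mk' N).comp ψ) h) ^ 3 = 1 := by
      rw [← map_pow, ← h3, pow_orderOf_eq_one, map_one]
    have hy2 : (((QuotientGroup.mk' N).comp ψ) h) ^ 2 = 1 := by
      have h2 := orderOf_dvd_natCard (((QuotientGroup.mk' N).comp ψ) h)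
      rw [hcard] at h2
      exact orderOf_dvd_iff_pow_eq_one.mp h2
    calc ((QuotientGroup.mk' N).comp ψ) h
        = (((QuotientGroup.mk' N).comp ψ) h) ^ 3 * ((((QuotientGroup.mk' N).comp ψ) h) ^ 2)⁻¹ := by
          group
      _ = 1 := by rw [hy3, hy2]; simp
  have hs : Function.Surjective ((QuotientGroup.mk' N).comp ψ) :=
    (QuotientGroup.mk'_surjective N).comp hsurj
  have hsub : Subsingleton (Q ⧸ N) := by
    constructor
    intro a b
    obtain ⟨x, rfl⟩ := hs a
    obtain ⟨y, rfl⟩ := hs b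
    have hx : x ∈ ((QuotientGroup.mk' N).comp ψ).ker := by rw [hker]; trivial
    have hy : y ∈ ((QuotientGroup.mk' N).comp ψ).ker := by rw [hker]; trivial
    rw [MonoidHom.mem_ker.mp hx, MonoidHom.mem_ker.mp hy]
  have h1 : Nat.card (Q ⧸ N) = 1 := Nat.card_of_subsingleton (1 : Q ⧸ N)
  omega

end Cfsg.Agent.Lib.Helper41.Zass
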