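import Mathlib
import Cfsg.Agent.Lib.Helper56.Zass.DKFDefs

/-!
Project ZASS (S0690), sub-package [DKF-LP]: the kernel of a surjection onto `A₄` or `A₅` from a
group with at most one involution, all of whose kernel elements square to 1, has order 2.
-/

set_option autoImplicit false

namespace Cfsg.Agent.Lib.Helper41.Zass

open Cfsg.Agent.Lib.Helper56.Zass

universe u

/-- Two distinct involutions in `A₄`. -/
theorem two_invol_alt4 : ∃ a b : alternatingGroup (Fin 4), a ≠ b ∧ orderOf a = 2 ∧ orderOf b = 2 := by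
  refine ⟨⟨Equiv.swap 0 1 * Equiv.swap 2 3, Equiv.Perm.mem_alternatingGroup.mpr (by decide)⟩, ⟨Equiv.swap 0 2 * Equiv.swap 1 3, Equiv.Perm.mem_alternatingGroup.mpr (by decide)⟩,
    by decide, ?_, ?_⟩
  · exact orderOf_eq_prime (by decide) (by decide)
  · exact orderOf_eq_prime (by decide) (by decide)

/-- Two distinct involutions in `A₅`. -/
theorem two_invol_alt5 : ∃ a b : alternatingGroup (Fin 5), a ≠ b ∧ orderOf a = 2 ∧ orderOf b = 2 := by
  refine ⟨⟨Equiv.swap 0 1 * Equiv.swap 2 3, Equiv.Perm.mem_alternatingGroup.mpr (by decide)⟩, ⟨Equiv.swap 0 2 * Equiv.swap 1 3, Equiv.Perm.mem_alternatingGroup.mpr (by decide)⟩,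
    by decide, ?_, ?_⟩
  · exact orderOf_eq_prime (by decide) (by decide)
  · exact orderOf_eq_prime (by decide) (by decide)

theorem pkgDkfLP : PkgDkfLP.{u} := by
  intro H _ _ n hn f hsurj huniq hker
  have h1 : ∀ g ∈ f.ker, g ≠ 1 → orderOf g = 2 := by
    intro g hg hg1
    exact orderOf_eq_prime (by rw [pow_two]; exact hker g hg) hg1
  by_cases hk : f.ker = ⊥
  · exfalso
    have hinj : Function.Injective f := (MonoidHom.ker_eq_bot_iff f).mp hk
    have h2 : ∃ a b : alternatingGroup (Fin n), a ≠ b ∧ orderOf a = 2 ∧ orderOf b = 2 := by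
      rcases hn with rfl | rfl
      · exact two_invol_alt4
      · exact two_invol_alt5
    obtain ⟨a, b, hab, ha, hb⟩ := h2
    obtain ⟨x, rfl⟩ := hsurj a
    obtain ⟨y, rfl⟩ := hsurj b
    have hx : orderOf x = 2 := by rw [← orderOf_injective f hinj x]; exact ha
    have hy : orderOf y = 2 := by rw [← orderOf_injective f hinj y]; exact hb
    exact hab (by rw [huniq x y hx hy])
  · obtain ⟨g, hg1⟩ := (Subgroup.ne_bot_iff_exists_ne_one).mp hk
    have hg1' : (g : H) ≠ 1 := fun h => hg1 (Subtype.ext h)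
    have hg2 : orderOf (g : H) = 2 := h1 g g.2 hg1'
    rw [Nat.card_eq_two_iff]
    refine ⟨1, g, fun h => hg1 h.symm, ?_⟩
    ext x
    simp only [Set.mem_insert_iff, Set.mem_singleton_iff, Set.mem_univ, iff_true]
    by_cases hx : x = 1
    · exact Or.inl hx
    · right
      have hx1 : (x : H) ≠ 1 := fun h => hx (Subtype.ext h)
      exact Subtype.ext (huniq x g (h1 x x.2 hx1) hg2)

end Cfsg.Agent.Lib.Helper41.Zass
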